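import Groth.Agent.H64.Boot5.FirstChart
import Groth.Agent.H53.ZMT.ElemFamily
import Mathlib.AlgebraicGeometry.PullbackCarrier
import Mathlib.AlgebraicGeometry.ZariskisMainTheorem

/-!
# The first chart at finitely many quasi-finite points of a fibre of `s`

`exists_first_chart_multi`: the multi-point version of `exists_first_chart` (request (R2m) of helper50).
-/

set_option autoImplicit false
set_option backward.isDefEq.respectTransparency.types false
universe u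
open CategoryTheory CategoryTheory.Limits AlgebraicGeometry TopologicalSpace

namespace Groth.Agent.H64.Boot5

/-- A point of a fibre product is determined by its projections when the residue field extension of the
second factor is trivial. -/
theorem pullback_point_ext {X Y S : Scheme.{u}} (f : X ⟶ S) (g : Y ⟶ S) (z z' : ↑(pullback f g))
    (h1 : pullback.fst f g z = pullback.fst f g z') (h2 : pullback.snd f g z = pullback.snd f g z')
    (hiso : IsIso (g.residueFieldMap (pullback.snd f g z'))) : z = z' := by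
  apply Scheme.Pullback.carrierEquiv.injective
  rw [Scheme.Pullback.carrierEquiv_eq_iff]
  have e : Scheme.Pullback.Triplet.ofPoint z = Scheme.Pullback.Triplet.ofPoint z' :=
    Scheme.Pullback.Triplet.ext h1 h2
  refine ⟨e, ?_⟩
  have hsub : Subsingleton ↥(Spec (Scheme.Pullback.Triplet.ofPoint z').tensor) := by
    let T := Scheme.Pullback.Triplet.ofPoint z'
    have : IsIso (g.residueFieldMap T.y) := hiso
    have : IsIso (T.tensorInl) := by
      change IsIso (pushout.inl ((S.residueFieldCongr T.hx).inv ≫ f.residueFieldMap T.x)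
        ((S.residueFieldCongr T.hy).inv ≫ g.residueFieldMap T.y))
      infer_instance
    have hinj : Function.Injective ⇑(Spec.map T.tensorInl) := (Spec.map T.tensorInl).injective
    exact hinj.subsingleton
  exact hsub.elim _ _

/-- The union of two opens which are finite over the base is finite over the base. -/
theorem isFinite_sup_ι_comp {X Y : Scheme.{u}} (f : X ⟶ Y) [IsSeparated f] [LocallyOfFiniteType f]
    (V₁ V₂ : X.Opens) (h₁ : IsFinite (V₁.ι ≫ f)) (h₂ : IsFinite (V₂.ι ≫ f)) :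
    IsFinite ((V₁ ⊔ V₂).ι ≫ f) := by
  let j₁ : V₁.toScheme ⟶ (V₁ ⊔ V₂).toScheme := X.homOfLE le_sup_left
  let j₂ : V₂.toScheme ⟶ (V₁ ⊔ V₂).toScheme := X.homOfLE le_sup_right
  let c : V₁.toScheme ⨿ V₂.toScheme ⟶ (V₁ ⊔ V₂).toScheme := coprod.desc j₁ j₂
  have hc : c ≫ ((V₁ ⊔ V₂).ι ≫ f) = coprod.desc (V₁.ι ≫ f) (V₂.ι ≫ f) := by
    apply coprod.hom_ext
    · rw [coprod.inl_desc, coprod.inl_desc_assoc, Scheme.homOfLE_ι_assoc]
    · rw [coprod.inr_desc, coprod.inr_desc_assoc, Scheme.homOfLE_ι_assoc]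
  have hsurj : Surjective c := by
    refine ⟨fun x => ?_⟩
    rcases x.2 with hx | hx
    · refine ⟨(coprod.inl : V₁.toScheme ⟶ V₁.toScheme ⨿ V₂.toScheme) ⟨x.1, hx⟩, ?_⟩
      rw [← Scheme.Hom.comp_apply, coprod.inl_desc]
      exact Scheme.homOfLE_apply' _ _ hx
    · refine ⟨(coprod.inr : V₂.toScheme ⟶ V₁.toScheme ⨿ V₂.toScheme) ⟨x.1, hx⟩, ?_⟩
      rw [← Scheme.Hom.comp_apply, coprod.inr_desc]
      exact Scheme.homOfLE_apply' _ _ hx
  have huc' : UniversallyClosed (c ≫ ((V₁ ⊔ V₂).ι ≫ f)) := by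
    rw [hc]; infer_instance
  have huc : UniversallyClosed ((V₁ ⊔ V₂).ι ≫ f) := UniversallyClosed.of_comp_surjective c _
  have hlqf : LocallyQuasiFinite ((V₁ ⊔ V₂).ι ≫ f) := by
    rw [← Scheme.Hom.quasiFiniteLocus_eq_top_iff]
    rw [eq_top_iff]
    rintro x -
    rw [Scheme.Hom.mem_quasiFiniteLocus]
    rcases x.2 with hx | hx
    · have h := (V₁.ι ≫ f).quasiFiniteAt ⟨x.1, hx⟩
      have e : V₁.ι ≫ f = j₁ ≫ ((V₁ ⊔ V₂).ι ≫ f) := by rw [Scheme.homOfLE_ι_assoc]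
      rw [e, Scheme.Hom.quasiFiniteAt_comp_iff_of_isOpenImmersion] at h
      have e' : j₁ ⟨x.1, hx⟩ = x := Scheme.homOfLE_apply' _ _ hx
      rwa [e'] at h
    · have h := (V₂.ι ≫ f).quasiFiniteAt ⟨x.1, hx⟩
      have e : V₂.ι ≫ f = j₂ ≫ ((V₁ ⊔ V₂).ι ≫ f) := by rw [Scheme.homOfLE_ι_assoc]
      rw [e, Scheme.Hom.quasiFiniteAt_comp_iff_of_isOpenImmersion] at h
      have e' : j₂ ⟨x.1, hx⟩ = x := Scheme.homOfLE_apply' _ _ hx
      rwa [e'] at h
  rw [IsFinite.iff_isProper_and_locallyQuasiFinite]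
  exact ⟨{}, hlqf⟩

/-- A finite union of opens which are finite over the base is finite over the base. -/
theorem isFinite_finsetSup_ι_comp {X Y : Scheme.{u}} (f : X ⟶ Y) [IsSeparated f]
    [LocallyOfFiniteType f] {J : Type*} (s : Finset J) (V : J → X.Opens)
    (h : ∀ j ∈ s, IsFinite ((V j).ι ≫ f)) : IsFinite ((s.sup V).ι ≫ f) := by
  refine Finset.sup_induction (p := fun W : X.Opens => IsFinite (W.ι ≫ f)) ?_ ?_ h
  · have : IsEmpty ↥((⊥ : X.Opens).toScheme) := ⟨fun x => x.2.elim⟩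
    infer_instance
  · intro W₁ h₁ W₂ h₂
    exact isFinite_sup_ι_comp f W₁ W₂ h₁ h₂

theorem mem_finsetSup_opens {X : Scheme.{u}} {J : Type*} (s : Finset J) (V : J → X.Opens) (x : X) :
    x ∈ s.sup V ↔ ∃ j ∈ s, x ∈ V j := by
  classical
  induction s using Finset.induction_on with
  | empty => simp
  | insert j₀ s' hj₀ IH =>
    rw [Finset.sup_insert]
    constructor
    · rintro (hx | hx)
      · exact ⟨j₀, Finset.mem_insert_self _ _, hx⟩
      · obtain ⟨j, hj, hxj⟩ := IH.mp hx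
        exact ⟨j, Finset.mem_insert_of_mem hj, hxj⟩
    · rintro ⟨j, hj, hxj⟩
      rcases Finset.mem_insert.mp hj with rfl | hj'
      · exact Or.inl hxj
      · exact Or.inr (IH.mpr ⟨j, hj', hxj⟩)

/-- **The first chart at finitely many points.** -/
theorem exists_first_chart_multi (S : Scheme.{u}) (G : Grpd.GroupoidScheme S) [IsAffine G.U]
    [IsSeparated G.s] [Flat G.s] [LocallyOfFinitePresentation G.s] (u : ↥G.U)
    (Sg : Set ↥G.R) (hfin : Sg.Finite) (hs : ∀ r ∈ Sg, G.s r = u) (he : G.e u ∈ Sg)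
    (hqf : ∀ r ∈ Sg, Dual3.QuasiFiniteAt G.s r) :
    ∃ (U₁ V : Scheme.{u}) (g₁ : U₁ ⟶ G.U) (r : V ⟶ G.R) (π : V ⟶ U₁) (eV : U₁ ⟶ V) (u₁ : ↥U₁)
      (w : r ≫ G.s = π ≫ g₁),
      IsAffine U₁ ∧ IsAffine V ∧ Etale g₁ ∧ g₁ u₁ = u ∧ IsIso (g₁.residueFieldMap u₁) ∧
      eV ≫ r = g₁ ≫ G.e ∧ eV ≫ π = 𝟙 U₁ ∧
      IsOpenImmersion (pullback.lift r π w) ∧ IsClosed (Set.range ⇑(pullback.lift r π w)) ∧
      IsFinite π ∧ Flat π ∧ LocallyOfFinitePresentation π ∧
      (letI := π.appTop.hom.toAlgebra; Module.Free Γ(U₁, ⊤) Γ(V, ⊤)) ∧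
      (∀ v : ↥V, π v = u₁ → r v ∈ Sg) ∧
      (∀ z : ↥(pullback G.s g₁), pullback.snd G.s g₁ z = u₁ → pullback.fst G.s g₁ z ∈ Sg →
        z ∈ Set.range ⇑(pullback.lift r π w)) := by
  classical
  let τ : Spec (.of ↑(G.U.residueField u)) ⟶ G.U := G.U.fromSpecResidueField u
  have hz : ∀ r ∈ hfin.toFinset, (∀ w, τ w = G.s r) ∧ G.s.QuasiFiniteAt r := by
    intro r hr
    rw [Set.Finite.mem_toFinset] at hr
    refine ⟨fun w => ?_, Scheme.Hom.quasiFiniteAt_iff_isOpen_singleton_asFiber.2 (hqf r hr)⟩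
    rw [hs r hr]
    exact Scheme.fromSpecResidueField_apply _ _
  obtain ⟨U', g, σ, hU', hg, hσ, H⟩ :=
    Groth.Agent.H53.ZMT.exists_elementary_etale_finite_family hfin.toFinset (fun _ => G.R)
      (fun _ => G.s) (fun r => r) τ hz
  have := hU'
  have := hg
  have H' : ∀ r ∈ hfin.toFinset, ∃ V : (pullback G.s g).Opens,
      IsFinite (V.ι ≫ pullback.snd G.s g) ∧
      (∃ v ∈ V, pullback.fst G.s g v = r ∧ ∀ w, pullback.snd G.s g v = σ w) ∧
      ∀ q ∈ V, (∃ w, pullback.snd G.s g q = σ w) → pullback.fst G.s g q = r :=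
    fun r hr => H r hr _ _ _ (IsPullback.of_hasPullback G.s g)
  choose! Vf hVf1 hVf2 hVf3 using H'
  let V₀ : (pullback G.s g).Opens := hfin.toFinset.sup Vf
  have hfinV₀ : IsFinite (V₀.ι ≫ pullback.snd G.s g) :=
    isFinite_finsetSup_ι_comp (pullback.snd G.s g) hfin.toFinset Vf hVf1
  have hmemV₀ : ∀ x, x ∈ V₀ ↔ ∃ r ∈ Sg, x ∈ Vf r := by
    intro x
    rw [mem_finsetSup_opens]
    simp only [Set.Finite.mem_toFinset]
  let σe : U' ⟶ pullback G.s g := sectionLift G.s G.e g G.e_s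
  let pt : Spec (.of ↑(G.U.residueField u)) := IsLocalRing.closedPoint (G.U.residueField u)
  have hsub : ∀ z : Spec (.of ↑(G.U.residueField u)), z = pt := fun z => Subsingleton.elim _ _
  have hσ' : (σ : Spec (G.U.residueField u) ⟶ U') ≫ g = G.U.fromSpecResidueField u := hσ
  obtain ⟨hgσ, hisoσ⟩ := isIso_residueFieldMap_of_section g u σ hσ'
  -- the marked point lies on the section and in `V₀`
  have hσeV : σe (σ pt) ∈ V₀ := by
    have heS : G.e u ∈ hfin.toFinset := by rwa [Set.Finite.mem_toFinset]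
    obtain ⟨v, hvV, hv1, hv2⟩ := hVf2 _ heS
    have h1 : v = σe (pullback.snd G.s g v) :=
      eq_sectionLift_apply G.s G.e g G.e_s v ⟨u, hv1.symm⟩
    rw [hv2 pt] at h1
    rw [hmemV₀]
    exact ⟨G.e u, he, h1 ▸ hvV⟩
  obtain ⟨U₀, hU₀, hu'U₀, hU₀W⟩ :=
    exists_isAffineOpen_mem_and_subset (x := σ pt) (U := σe ⁻¹ᵁ V₀) hσeV
  let π₀ : V₀.toScheme ⟶ U' := V₀.ι ≫ pullback.snd G.s g
  have : IsFinite π₀ := hfinV₀
  have : Flat π₀ := inferInstanceAs (Flat (V₀.ι ≫ pullback.snd G.s g))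
  have : LocallyOfFinitePresentation π₀ :=
    inferInstanceAs (LocallyOfFinitePresentation (V₀.ι ≫ pullback.snd G.s g))
  obtain ⟨r₀, hr₀, hfree⟩ := exists_free_basicOpen π₀ (σ pt) U₀ hU₀ hu'U₀
  let D : U'.Opens := U'.basicOpen r₀
  have hD : IsAffineOpen D := hU₀.basicOpen r₀
  have hDW : ∀ y : U', y ∈ D → σe y ∈ V₀ := fun y hy => hU₀W (U'.basicOpen_le r₀ hy)
  -- the data
  let g₁ : D.toScheme ⟶ G.U := D.ι ≫ g
  let ιV : (π₀ ⁻¹ᵁ D).toScheme ⟶ pullback G.s g := (π₀ ⁻¹ᵁ D).ι ≫ V₀.ι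
  let r : (π₀ ⁻¹ᵁ D).toScheme ⟶ G.R := ιV ≫ pullback.fst G.s g
  let π : (π₀ ⁻¹ᵁ D).toScheme ⟶ D.toScheme := π₀ ∣_ D
  have hπι : π ≫ D.ι = ιV ≫ pullback.snd G.s g := by
    change π₀ ∣_ D ≫ D.ι = ((π₀ ⁻¹ᵁ D).ι ≫ V₀.ι) ≫ pullback.snd G.s g
    rw [morphismRestrict_ι, Category.assoc]
  have w : r ≫ G.s = π ≫ g₁ := by
    have e1 : r ≫ G.s = ιV ≫ pullback.snd G.s g ≫ g := by
      change (ιV ≫ pullback.fst G.s g) ≫ G.s = _
      rw [Category.assoc ιV, pullback.condition]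
    have e2 : π ≫ g₁ = ιV ≫ pullback.snd G.s g ≫ g := by
      change π ≫ D.ι ≫ g = _
      rw [← Category.assoc π, hπι, Category.assoc ιV]
    rw [e1, e2]
  -- the marked point of `U₁`
  have hσrange : Set.range ⇑σ ⊆ Set.range ⇑D.ι := by
    rintro _ ⟨z, rfl⟩
    rw [Scheme.Opens.range_ι, hsub z]
    exact hr₀
  let σ₁ : Spec (G.U.residueField u) ⟶ D.toScheme := IsOpenImmersion.lift D.ι σ hσrange
  have hσ₁ι : σ₁ ≫ D.ι = σ := IsOpenImmersion.lift_fac _ _ _
  have hσ₁ : σ₁ ≫ g₁ = G.U.fromSpecResidueField u := by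
    change σ₁ ≫ D.ι ≫ g = _
    rw [← Category.assoc, hσ₁ι, hσ']
  obtain ⟨hg₁u, hiso⟩ := isIso_residueFieldMap_of_section g₁ u σ₁ hσ₁
  let u₁ : D.toScheme := σ₁ pt
  have hu₁ : D.ι u₁ = σ pt := by
    change D.ι (σ₁ pt) = σ pt
    rw [← Scheme.Hom.comp_apply, hσ₁ι]
  -- the identity section
  have hrange : Set.range ⇑(D.ι ≫ σe) ⊆ Set.range ⇑ιV := by
    rintro _ ⟨y, rfl⟩
    have hyD : D.ι y ∈ D := by
      have := Set.mem_range_self (f := ⇑D.ι) y
      rwa [Scheme.Opens.range_ι] at this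
    have hq : σe (D.ι y) ∈ V₀ := hDW _ hyD
    let q₀ : V₀.toScheme := ⟨σe (D.ι y), hq⟩
    have hq₀ : V₀.ι q₀ = σe (D.ι y) := rfl
    have hπq₀ : π₀ q₀ = D.ι y := by
      change (V₀.ι ≫ pullback.snd G.s g) q₀ = D.ι y
      rw [Scheme.Hom.comp_apply, hq₀, ← Scheme.Hom.comp_apply, sectionLift_snd]
      rfl
    have hq₀D : q₀ ∈ π₀ ⁻¹ᵁ D := by
      change π₀ q₀ ∈ D
      rw [hπq₀]; exact hyD
    refine ⟨⟨q₀, hq₀D⟩, ?_⟩
    change (D.ι ≫ σe) y = _
    rw [Scheme.Hom.comp_apply]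
  let eV : D.toScheme ⟶ (π₀ ⁻¹ᵁ D).toScheme := IsOpenImmersion.lift ιV (D.ι ≫ σe) hrange
  have heVι : eV ≫ ιV = D.ι ≫ σe := IsOpenImmersion.lift_fac _ _ _
  have h1 : eV ≫ r = g₁ ≫ G.e := by
    change eV ≫ ιV ≫ pullback.fst G.s g = (D.ι ≫ g) ≫ G.e
    rw [← Category.assoc, heVι, Category.assoc, sectionLift_fst, Category.assoc]
  have h2 : eV ≫ π = 𝟙 D.toScheme := by
    rw [← cancel_mono D.ι, Category.assoc, hπι, ← Category.assoc, heVι, Category.assoc,
      sectionLift_snd, Category.comp_id, Category.id_comp]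
  -- the open immersion
  let k : pullback G.s g₁ ⟶ pullback G.s g :=
    pullback.map G.s g₁ G.s g (𝟙 _) D.ι (𝟙 _) (by simp) (by simp [g₁])
  have hk1 : k ≫ pullback.fst G.s g = pullback.fst G.s g₁ := by
    rw [pullback.lift_fst, Category.comp_id]
  have hk2 : k ≫ pullback.snd G.s g = pullback.snd G.s g₁ ≫ D.ι := pullback.lift_snd _ _ _
  have : IsOpenImmersion k := by
    change IsOpenImmersion (pullback.map G.s (D.ι ≫ g) G.s g (𝟙 _) D.ι (𝟙 _) _ _)
    infer_instance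
  have hlk : pullback.lift r π w ≫ k = ιV := by
    apply pullback.hom_ext
    · rw [Category.assoc, pullback.lift_fst, Category.comp_id, pullback.lift_fst]
    · rw [Category.assoc, pullback.lift_snd, ← Category.assoc, pullback.lift_snd, hπι]
  have : IsOpenImmersion (pullback.lift r π w ≫ k) := by
    rw [hlk]; infer_instance
  have hopen : IsOpenImmersion (pullback.lift r π w) := IsOpenImmersion.of_comp _ k
  -- finiteness and closedness
  have : IsFinite π := inferInstanceAs (IsFinite (π₀ ∣_ D))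
  have : Flat π := inferInstanceAs (Flat (π₀ ∣_ D))
  have : LocallyOfFinitePresentation π :=
    inferInstanceAs (LocallyOfFinitePresentation (π₀ ∣_ D))
  have : UniversallyClosed (pullback.lift r π w ≫ pullback.snd G.s g₁) := by
    rw [pullback.lift_snd]; infer_instance
  have : UniversallyClosed (pullback.lift r π w) :=
    UniversallyClosed.of_comp_of_isSeparated _ (pullback.snd G.s g₁)
  have hclosed : IsClosed (Set.range ⇑(pullback.lift r π w)) :=
    (pullback.lift r π w).isClosedMap.isClosed_range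
  have : IsAffine D.toScheme := hD
  have hVaff : IsAffine (π₀ ⁻¹ᵁ D).toScheme := isAffine_of_isAffineHom π
  -- the fibre over `u₁`
  have hfib1 : ∀ v' : (π₀ ⁻¹ᵁ D).toScheme, π v' = u₁ → r v' ∈ Sg := by
    intro v' hv'
    have hqV : ιV v' ∈ V₀ := by
      change ((π₀ ⁻¹ᵁ D).ι ≫ V₀.ι) v' ∈ V₀
      rw [Scheme.Hom.comp_apply]
      exact ((π₀ ⁻¹ᵁ D).ι v').2
    have hq2 : pullback.snd G.s g (ιV v') = σ pt := by
      rw [← Scheme.Hom.comp_apply, ← hπι, Scheme.Hom.comp_apply, hv', hu₁]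
    obtain ⟨r', hr'S, hr'V⟩ := (hmemV₀ _).mp hqV
    have hr'F : r' ∈ hfin.toFinset := by rwa [Set.Finite.mem_toFinset]
    have hq1 : pullback.fst G.s g (ιV v') = r' := hVf3 r' hr'F _ hr'V ⟨pt, hq2⟩
    change (ιV ≫ pullback.fst G.s g) v' ∈ Sg
    rw [Scheme.Hom.comp_apply, hq1]
    exact hr'S
  have hfib2 : ∀ z : ↥(pullback G.s g₁), pullback.snd G.s g₁ z = u₁ →
      pullback.fst G.s g₁ z ∈ Sg → z ∈ Set.range ⇑(pullback.lift r π w) := by
    intro z hz2 hz1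
    have hr'F : pullback.fst G.s g₁ z ∈ hfin.toFinset := by rwa [Set.Finite.mem_toFinset]
    obtain ⟨v, hvV, hv1, hv2⟩ := hVf2 _ hr'F
    have hkz1 : pullback.fst G.s g (k z) = pullback.fst G.s g₁ z := by
      rw [← Scheme.Hom.comp_apply, hk1]
    have hkz2 : pullback.snd G.s g (k z) = σ pt := by
      rw [← Scheme.Hom.comp_apply, hk2, Scheme.Hom.comp_apply, hz2, hu₁]
    have hkzv : k z = v := by
      refine pullback_point_ext G.s g (k z) v (hkz1.trans hv1.symm) (hkz2.trans (hv2 pt).symm) ?_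
      rw [hv2 pt]
      exact hisoσ
    have hkzV₀ : k z ∈ V₀ := by
      rw [hmemV₀]
      exact ⟨_, hz1, hkzv ▸ hvV⟩
    let q₀ : V₀.toScheme := ⟨k z, hkzV₀⟩
    have hq₀D : q₀ ∈ π₀ ⁻¹ᵁ D := by
      change (V₀.ι ≫ pullback.snd G.s g) q₀ ∈ D
      rw [Scheme.Hom.comp_apply]
      change pullback.snd G.s g (k z) ∈ D
      rw [hkz2]
      exact hr₀
    refine ⟨⟨q₀, hq₀D⟩, ?_⟩
    apply k.injective
    rw [← Scheme.Hom.comp_apply, hlk]
    rfl
  exact ⟨D.toScheme, (π₀ ⁻¹ᵁ D).toScheme, g₁, r, π, eV, u₁, w, hD, hVaff,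
    inferInstanceAs (Etale (D.ι ≫ g)), hg₁u, hiso, h1, h2, hopen, hclosed, inferInstance,
    inferInstance, inferInstance, free_appTop_morphismRestrict π₀ D hfree, hfib1, hfib2⟩

end Groth.Agent.H64.Boot5
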