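import Mathlib.AlgebraicGeometry.ResidueField
import Mathlib.AlgebraicGeometry.Morphisms.Flat
import Mathlib.AlgebraicGeometry.Pullbacks

/-!
# Points of a fibre product lying on a section

* `comp_retraction_eq`: a field valued point of `R` whose image point lies on a section `e` of
  `s : R ⟶ U` is fixed by `s ≫ e`.
* `eq_section_apply`: a point `q` of `R ×_{s,U,g} U₁` whose first projection lies on the section `e` is the
  value at `p₂ q` of the induced section `U₁ ⟶ R ×_U U₁`.
* `isIso_residueFieldMap_of_section`: an `S`-morphism `g : U₁ ⟶ U` with a lift `σ` of the residue field point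
  of `u` has trivial residue field extension at the image of `σ`.
-/

set_option autoImplicit false
universe u
open CategoryTheory CategoryTheory.Limits AlgebraicGeometry

namespace Groth.Agent.H64.Boot5

/-- `Spec` of a homomorphism of residue fields is an epimorphism of schemes. -/
theorem epi_specMap_residueField {X Y : Scheme.{u}} (x : X) (y : Y)
    (φ : X.residueField x ⟶ Y.residueField y) : Epi (Spec.map φ) := by
  haveI : Flat (Spec.map φ) := by
    rw [HasRingHomProperty.Spec_iff (P := @Flat)]
    algebraize [φ.hom]
    exact RingHom.flat_algebraMap_iff.2 inferInstance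
  haveI : Surjective (Spec.map φ) := by
    refine ⟨fun z => ?_⟩
    obtain ⟨w⟩ : Nonempty (Spec (Y.residueField y)) := ⟨default⟩
    exact ⟨w, Subsingleton.elim _ _⟩
  exact Flat.epi_of_flat_of_surjective _

variable {R U : Scheme.{u}} (s : R ⟶ U) (e : U ⟶ R)

/-- The residue field point of a point on a section is fixed by the retraction. -/
theorem fromSpecResidueField_comp_retraction (he : e ≫ s = 𝟙 U) (y : R) (hy : y ∈ Set.range e) :
    R.fromSpecResidueField y ≫ s ≫ e = R.fromSpecResidueField y := by
  obtain ⟨u', rfl⟩ := hy
  haveI := epi_specMap_residueField _ _ (e.residueFieldMap u')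
  rw [← cancel_epi (Spec.map (e.residueFieldMap u'))]
  rw [Scheme.Hom.SpecMap_residueFieldMap_fromSpecResidueField_assoc,
    Scheme.Hom.SpecMap_residueFieldMap_fromSpecResidueField, reassoc_of% he]

/-- A field valued point of `R` whose image point lies on the section `e` is fixed by `s ≫ e`. -/
theorem comp_retraction_eq (he : e ≫ s = 𝟙 U) {K : Type u} [Field K] (a : Spec (.of K) ⟶ R)
    (ha : a (IsLocalRing.closedPoint K) ∈ Set.range e) : a ≫ s ≫ e = a := by
  have h := Scheme.descResidueField_stalkClosedPointTo_fromSpecResidueField K R a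
  rw [← h, Category.assoc, fromSpecResidueField_comp_retraction s e he _ ha]

variable {U₁ : Scheme.{u}} (g : U₁ ⟶ U)

/-- The section of `R ×_U U₁ ⟶ U₁` induced by a section `e` of `s`. -/
noncomputable def sectionLift (he : e ≫ s = 𝟙 U) : U₁ ⟶ pullback s g :=
  pullback.lift (g ≫ e) (𝟙 U₁) (by rw [Category.assoc, he, Category.comp_id, Category.id_comp])

@[reassoc (attr := simp)]
theorem sectionLift_fst (he : e ≫ s = 𝟙 U) :
    sectionLift s e g he ≫ pullback.fst s g = g ≫ e := pullback.lift_fst _ _ _

@[reassoc (attr := simp)]
theorem sectionLift_snd (he : e ≫ s = 𝟙 U) :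
    sectionLift s e g he ≫ pullback.snd s g = 𝟙 U₁ := pullback.lift_snd _ _ _

/-- A point of `R ×_U U₁` whose first projection lies on the section `e` is on the induced section. -/
theorem eq_sectionLift_apply (he : e ≫ s = 𝟙 U) (q : ↥(pullback s g))
    (hq : pullback.fst s g q ∈ Set.range e) :
    q = sectionLift s e g he (pullback.snd s g q) := by
  set F := (pullback s g).fromSpecResidueField q with hF
  have hFpt : ∀ z, F z = q := fun z => Scheme.fromSpecResidueField_apply _ z
  set a := F ≫ pullback.fst s g with ha
  set b := F ≫ pullback.snd s g with hb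
  have hapt : a (IsLocalRing.closedPoint ((pullback s g).residueField q)) ∈ Set.range e := by
    rw [ha, Scheme.Hom.comp_apply, hFpt]
    exact hq
  have h1 : a ≫ s ≫ e = a := comp_retraction_eq s e he a hapt
  have h2 : a ≫ s = b ≫ g := by
    rw [ha, hb, Category.assoc, Category.assoc, pullback.condition]
  have h3 : F = b ≫ sectionLift s e g he := by
    apply pullback.hom_ext
    · rw [Category.assoc, sectionLift_fst, ← Category.assoc, ← h2, Category.assoc, h1]
    · rw [Category.assoc, sectionLift_snd, Category.comp_id]
  have h4 := congrArg (fun k => k (IsLocalRing.closedPoint ((pullback s g).residueField q))) h3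
  simp only at h4
  rw [hFpt, Scheme.Hom.comp_apply, hb, Scheme.Hom.comp_apply, hFpt] at h4
  exact h4

/-- An elementary étale neighbourhood has trivial residue field extension at its marked point. -/
theorem isIso_residueFieldMap_of_section (u : U) (σ : Spec (U.residueField u) ⟶ U₁)
    (hσ : σ ≫ g = U.fromSpecResidueField u) :
    g (σ (IsLocalRing.closedPoint (U.residueField u))) = u ∧
      IsIso (g.residueFieldMap (σ (IsLocalRing.closedPoint (U.residueField u)))) := by
  set pt := IsLocalRing.closedPoint (U.residueField u) with hpt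
  set u₁ := σ pt with hu₁
  have hgu : g u₁ = u := by
    rw [hu₁, ← Scheme.Hom.comp_apply, hσ, Scheme.fromSpecResidueField_apply]
  refine ⟨hgu, ?_⟩
  let σ' : Spec (.of ↑(U.residueField u)) ⟶ U₁ := σ
  set φ : U₁.residueField u₁ ⟶ U.residueField u :=
    Scheme.descResidueField (K := ↑(U.residueField u)) (Scheme.stalkClosedPointTo σ') with hφ
  have h1 : Spec.map φ ≫ U₁.fromSpecResidueField u₁ = σ :=
    Scheme.descResidueField_stalkClosedPointTo_fromSpecResidueField ↑(U.residueField u) U₁ σ'
  have h2 : Spec.map (g.residueFieldMap u₁ ≫ φ) ≫ U.fromSpecResidueField (g u₁) =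
      U.fromSpecResidueField u := by
    rw [Spec.map_comp, Category.assoc, Scheme.Hom.SpecMap_residueFieldMap_fromSpecResidueField,
      ← Category.assoc, h1, hσ]
  have key : ∀ (y : U) (_ : y = u) (θ : U.residueField y ⟶ U.residueField u),
      Spec.map θ ≫ U.fromSpecResidueField y = U.fromSpecResidueField u → IsIso θ := by
    rintro _ rfl θ hθ
    have : Spec.map θ = Spec.map (𝟙 _) := by
      rw [← cancel_mono (U.fromSpecResidueField _), hθ, Spec.map_id, Category.id_comp]
    rw [Spec.map_injective this]
    infer_instance
  have hθ : IsIso (g.residueFieldMap u₁ ≫ φ) := key _ hgu _ h2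
  haveI : Mono φ := ConcreteCategory.mono_of_injective _ (RingHom.injective φ.hom)
  haveI : IsSplitEpi φ :=
    ⟨⟨inv (g.residueFieldMap u₁ ≫ φ) ≫ g.residueFieldMap u₁, by
      rw [Category.assoc, IsIso.inv_hom_id]⟩⟩
  haveI : IsIso φ := isIso_of_mono_of_isSplitEpi φ
  exact IsIso.of_isIso_comp_right (g.residueFieldMap u₁) φ

end Groth.Agent.H64.Boot5
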