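import Groth.Agent.H64.Boot5.SectionPt
import Groth.Agent.H53.ZMT.LocalStr2
import Groth.Agent.H40.CD.FiniteFreeAlg
import Groth.Prelude.Def_Grpd
import Groth.Prelude.Def_Dual3
import Mathlib.AlgebraicGeometry.Morphisms.QuasiFinite
import Mathlib.AlgebraicGeometry.Morphisms.Separated
import Mathlib.AlgebraicGeometry.Morphisms.Etale
import Mathlib.AlgebraicGeometry.Morphisms.Finite
import Mathlib.AlgebraicGeometry.Morphisms.Proper
import Mathlib.AlgebraicGeometry.Morphisms.Flat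
import Mathlib.AlgebraicGeometry.Morphisms.FinitePresentation

/-!
# The first chart for étale localisation of a groupoid scheme at a quasi-finite point

For a groupoid scheme `(U, R, s, t, c, e, i)` with `U` affine, `s` separated, flat and locally of finite
presentation and quasi-finite at `e(u)`: an affine étale neighbourhood `(U₁, u₁) ⟶ (U, u)` with trivial
residue field extension and an open and closed subscheme `V ⊆ R ×_{s,U} U₁`, finite, flat, finitely presented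
over `U₁` with `Γ(V)` a FREE `Γ(U₁)`-module, containing the identity section, with a single point over
`u₁`.
-/

set_option autoImplicit false
set_option backward.isDefEq.respectTransparency.types false
universe u
open CategoryTheory CategoryTheory.Limits AlgebraicGeometry TopologicalSpace

namespace Groth.Agent.H64.Boot5

/-- Freeness of a finite flat finitely presented morphism on a basic open inside a given affine
neighbourhood (variant of `Groth.Agent.H40.CD.exists_free_nhd_of_finite_flat`). -/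
theorem exists_free_basicOpen {Y S : Scheme.{u}} (f : Y ⟶ S) [IsFinite f] [Flat f]
    [LocallyOfFinitePresentation f] (s : S) (U₀ : S.Opens) (hU₀ : IsAffineOpen U₀) (hs : s ∈ U₀) :
    ∃ r : Γ(S, U₀), s ∈ S.basicOpen r ∧
      @Module.Free Γ(S, S.basicOpen r) Γ(Y, f ⁻¹ᵁ S.basicOpen r) _ _
        (f.app (S.basicOpen r)).hom.toAlgebra.toModule := by
  have hV₀ : IsAffineOpen (f ⁻¹ᵁ U₀) := hU₀.preimage f
  letI : Algebra Γ(S, U₀) Γ(Y, f ⁻¹ᵁ U₀) := (f.app U₀).hom.toAlgebra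
  have hfin : Module.Finite Γ(S, U₀) Γ(Y, f ⁻¹ᵁ U₀) :=
    RingHom.finite_algebraMap.mp (f.finite_app U₀ hU₀)
  have happ : f.app U₀ = f.appLE U₀ (f ⁻¹ᵁ U₀) le_rfl := (Scheme.Hom.appLE_eq_app f).symm
  have hflat : Module.Flat Γ(S, U₀) Γ(Y, f ⁻¹ᵁ U₀) := by
    have := f.flat_appLE hU₀ hV₀ le_rfl
    rw [← happ] at this
    exact this
  have hfp : Algebra.FinitePresentation Γ(S, U₀) Γ(Y, f ⁻¹ᵁ U₀) := by
    have := f.finitePresentation_appLE hU₀ hV₀ le_rfl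
    rw [← happ] at this
    exact this
  let p : Ideal Γ(S, U₀) :=
    (IsLocalRing.maximalIdeal (S.presheaf.stalk s)).comap (S.presheaf.germ U₀ s hs).hom
  haveI : p.IsPrime := Ideal.IsPrime.comap _
  obtain ⟨r, hr, hfree⟩ := Groth.Agent.H40.CD.exists_free_away_of_finite_flat (A := Γ(S, U₀))
    (B := Γ(Y, f ⁻¹ᵁ U₀)) p
  have hle : S.basicOpen r ≤ U₀ := S.basicOpen_le r
  have hsr : s ∈ S.basicOpen r := by
    rw [Scheme.mem_basicOpen _ _ _ hs]
    by_contra hnu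
    exact hr ((IsLocalRing.mem_maximalIdeal _).mpr hnu)
  refine ⟨r, hsr, ?_⟩
  have hle' : f ⁻¹ᵁ S.basicOpen r ≤ f ⁻¹ᵁ U₀ := fun y hy => hle hy
  letI i1 : Algebra Γ(S, U₀) Γ(S, S.basicOpen r) :=
    (S.presheaf.map (homOfLE hle).op).hom.toAlgebra
  letI i2 : Algebra Γ(Y, f ⁻¹ᵁ U₀) Γ(Y, f ⁻¹ᵁ S.basicOpen r) :=
    (Y.presheaf.map (homOfLE hle').op).hom.toAlgebra
  letI i3 : Algebra Γ(S, S.basicOpen r) Γ(Y, f ⁻¹ᵁ S.basicOpen r) :=
    (f.app (S.basicOpen r)).hom.toAlgebra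
  letI i4 : Algebra Γ(S, U₀) Γ(Y, f ⁻¹ᵁ S.basicOpen r) :=
    ((f.app (S.basicOpen r)).hom.comp (S.presheaf.map (homOfLE hle).op).hom).toAlgebra
  haveI : IsScalarTower Γ(S, U₀) Γ(S, S.basicOpen r) Γ(Y, f ⁻¹ᵁ S.basicOpen r) :=
    IsScalarTower.of_algebraMap_eq' rfl
  haveI : IsScalarTower Γ(S, U₀) Γ(Y, f ⁻¹ᵁ U₀) Γ(Y, f ⁻¹ᵁ S.basicOpen r) := by
    apply IsScalarTower.of_algebraMap_eq'
    change (f.app (S.basicOpen r)).hom.comp (S.presheaf.map (homOfLE hle).op).hom =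
      (Y.presheaf.map (homOfLE hle').op).hom.comp (f.app U₀).hom
    rw [← CommRingCat.hom_comp, ← CommRingCat.hom_comp]
    congr 1
    exact f.naturality (homOfLE hle).op
  haveI : IsLocalization.Away r Γ(S, S.basicOpen r) :=
    hU₀.isLocalization_of_eq_basicOpen r (homOfLE hle) rfl
  haveI : IsLocalization.Away (algebraMap Γ(S, U₀) Γ(Y, f ⁻¹ᵁ U₀) r)
      Γ(Y, f ⁻¹ᵁ S.basicOpen r) :=
    hV₀.isLocalization_of_eq_basicOpen _ (homOfLE hle') (Scheme.preimage_basicOpen f r)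
  exact hfree Γ(S, S.basicOpen r) Γ(Y, f ⁻¹ᵁ S.basicOpen r)

/-- Transport of freeness along a ring isomorphism of the target. -/
theorem free_of_ringEquiv_comp {A B₁ B₂ : Type u} [CommRing A] [CommRing B₁] [CommRing B₂]
    (φ₁ : A →+* B₁) (φ₂ : A →+* B₂) (ε : B₁ ≃+* B₂) (h : ∀ a, ε (φ₁ a) = φ₂ a)
    (hfree : @Module.Free A B₁ _ _ φ₁.toAlgebra.toModule) :
    @Module.Free A B₂ _ _ φ₂.toAlgebra.toModule := by
  letI := φ₁.toAlgebra
  letI := φ₂.toAlgebra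
  let l : B₁ ≃ₗ[A] B₂ :=
    { ε.toAddEquiv with
      map_smul' := fun a b => by
        change ε (φ₁ a * b) = φ₂ a * ε b
        rw [map_mul, h] }
  exact Module.Free.of_equiv l

/-- Freeness of the sections over `D` gives freeness of the global sections of the restriction. -/
theorem free_appTop_morphismRestrict {Y S : Scheme.{u}} (f : Y ⟶ S) (D : S.Opens)
    (h : @Module.Free Γ(S, D) Γ(Y, f ⁻¹ᵁ D) _ _ (f.app D).hom.toAlgebra.toModule) :
    @Module.Free Γ(D.toScheme, ⊤) Γ((f ⁻¹ᵁ D).toScheme, ⊤) _ _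
      (f ∣_ D).appTop.hom.toAlgebra.toModule := by
  have h' : ∀ D' : S.Opens, D' = D →
      @Module.Free Γ(S, D') Γ(Y, f ⁻¹ᵁ D') _ _ (f.app D').hom.toAlgebra.toModule := by
    rintro _ rfl; exact h
  have h'' := h' (D.ι ''ᵁ ⊤) (Scheme.Opens.ι_image_top D)
  have hε := morphismRestrict_appTop f D
  let ε : Γ(Y, f ⁻¹ᵁ (D.ι ''ᵁ ⊤)) ≅ Γ((f ⁻¹ᵁ D).toScheme, ⊤) :=
    Y.presheaf.mapIso (eqToIso (image_morphismRestrict_preimage f D ⊤)).op
  refine free_of_ringEquiv_comp (f.app (D.ι ''ᵁ ⊤)).hom (f ∣_ D).appTop.hom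
    ε.commRingCatIsoToRingEquiv (fun a => ?_) h''
  have := congrArg (fun k : Γ(D.toScheme, ⊤) ⟶ Γ((f ⁻¹ᵁ D).toScheme, ⊤) =>
    k.hom (show ↑Γ(D.toScheme, ⊤) from a)) hε
  exact this.symm


/-- **The first chart.** -/
theorem exists_first_chart (S : Scheme.{u}) (G : Grpd.GroupoidScheme S) [IsAffine G.U]
    [IsSeparated G.s] [Flat G.s] [LocallyOfFinitePresentation G.s] (u : ↥G.U)
    (hqf : Dual3.QuasiFiniteAt G.s (G.e u)) :
    ∃ (U₁ V : Scheme.{u}) (g₁ : U₁ ⟶ G.U) (r : V ⟶ G.R) (π : V ⟶ U₁) (eV : U₁ ⟶ V) (u₁ : ↥U₁)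
      (w : r ≫ G.s = π ≫ g₁),
      IsAffine U₁ ∧ IsAffine V ∧ Etale g₁ ∧ g₁ u₁ = u ∧ IsIso (g₁.residueFieldMap u₁) ∧
      eV ≫ r = g₁ ≫ G.e ∧ eV ≫ π = 𝟙 U₁ ∧
      IsOpenImmersion (pullback.lift r π w) ∧ IsClosed (Set.range ⇑(pullback.lift r π w)) ∧
      IsFinite π ∧ Flat π ∧ LocallyOfFinitePresentation π ∧
      (letI := π.appTop.hom.toAlgebra; Module.Free Γ(U₁, ⊤) Γ(V, ⊤)) ∧
      ∀ v : ↥V, π v = u₁ → v = eV u₁ := by
  have hx : G.s.QuasiFiniteAt (G.e u) :=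
    Scheme.Hom.quasiFiniteAt_iff_isOpen_singleton_asFiber.2 hqf
  have hsu : G.s (G.e u) = u := by
    rw [← Scheme.Hom.comp_apply, G.e_s]; rfl
  obtain ⟨U', g, σ, hU', hg, hσ, V₀, hfin, ⟨v, hvV, hv1, hv2⟩, huniq⟩ :=
    Groth.Agent.H53.ZMT.exists_elementary_etale_finite_of_quasiFiniteAt G.s hsu hx
  haveI := hU'
  haveI := hg
  let σe : U' ⟶ pullback G.s g := sectionLift G.s G.e g G.e_s
  let pt : Spec (G.U.residueField u) := IsLocalRing.closedPoint (G.U.residueField u)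
  have hsub : ∀ z : Spec (G.U.residueField u), z = pt := fun z => Subsingleton.elim _ _
  -- the marked point lies on the section and in `V₀`
  have hσeV : σe (σ pt) ∈ V₀ := by
    have h1 : v = σe (pullback.snd G.s g v) :=
      eq_sectionLift_apply G.s G.e g G.e_s v ⟨u, hv1.symm⟩
    rw [hv2 pt] at h1
    rw [← h1]; exact hvV
  obtain ⟨U₀, hU₀, hu'U₀, hU₀W⟩ :=
    exists_isAffineOpen_mem_and_subset (x := σ pt) (U := σe ⁻¹ᵁ V₀) hσeV
  let π₀ : V₀.toScheme ⟶ U' := V₀.ι ≫ pullback.snd G.s g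
  haveI : IsFinite π₀ := hfin
  haveI : Flat π₀ := inferInstanceAs (Flat (V₀.ι ≫ pullback.snd G.s g))
  haveI : LocallyOfFinitePresentation π₀ :=
    inferInstanceAs (LocallyOfFinitePresentation (V₀.ι ≫ pullback.snd G.s g))
  obtain ⟨r₀, hr₀, hfree⟩ := exists_free_basicOpen π₀ (σ pt) U₀ hU₀ hu'U₀
  let D : U'.Opens := U'.basicOpen r₀
  have hD : IsAffineOpen D := hU₀.basicOpen r₀
  have hDW : ∀ y : U', y ∈ D → σe y ∈ V₀ := fun y hy => hU₀W (U'.basicOpen_le r₀ hy)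
  -- the data
  let g₁ : D.toScheme ⟶ G.U := D.ι ≫ g
  let ιV : (π₀ ⁻¹ᵁ D).toScheme ⟶ pullback G.s g := (π₀ ⁻¹ᵁ D).ι ≫ V₀.ι
  let r : (π₀ ⁻¹ᵁ D).toScheme ⟶ G.R := ιV ≫ pullback.fst G.s g
  let π : (π₀ ⁻¹ᵁ D).toScheme ⟶ D.toScheme := π₀ ∣_ D
  have hπι : π ≫ D.ι = ιV ≫ pullback.snd G.s g := by
    change π₀ ∣_ D ≫ D.ι = ((π₀ ⁻¹ᵁ D).ι ≫ V₀.ι) ≫ pullback.snd G.s g
    rw [morphismRestrict_ι, Category.assoc]
  have w : r ≫ G.s = π ≫ g₁ := by
    have e1 : r ≫ G.s = ιV ≫ pullback.snd G.s g ≫ g := by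
      change (ιV ≫ pullback.fst G.s g) ≫ G.s = _
      rw [Category.assoc ιV, pullback.condition]
    have e2 : π ≫ g₁ = ιV ≫ pullback.snd G.s g ≫ g := by
      change π ≫ D.ι ≫ g = _
      rw [← Category.assoc π, hπι, Category.assoc ιV]
    rw [e1, e2]
  -- the marked point of `U₁`
  have hσrange : Set.range ⇑σ ⊆ Set.range ⇑D.ι := by
    rintro _ ⟨z, rfl⟩
    rw [Scheme.Opens.range_ι, hsub z]
    exact hr₀
  let σ' : Spec (G.U.residueField u) ⟶ D.toScheme := IsOpenImmersion.lift D.ι σ hσrange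
  have hσ'ι : σ' ≫ D.ι = σ := IsOpenImmersion.lift_fac _ _ _
  have hσ' : σ' ≫ g₁ = G.U.fromSpecResidueField u := by
    change σ' ≫ D.ι ≫ g = _
    rw [← Category.assoc, hσ'ι, hσ]
  obtain ⟨hg₁u, hiso⟩ := isIso_residueFieldMap_of_section g₁ u σ' hσ'
  let u₁ : D.toScheme := σ' pt
  have hu₁ : D.ι u₁ = σ pt := by
    change D.ι (σ' pt) = σ pt
    rw [← Scheme.Hom.comp_apply, hσ'ι]
  -- the identity section
  have hrange : Set.range ⇑(D.ι ≫ σe) ⊆ Set.range ⇑ιV := by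
    rintro _ ⟨y, rfl⟩
    have hyD : D.ι y ∈ D := by
      have := Set.mem_range_self (f := ⇑D.ι) y
      rwa [Scheme.Opens.range_ι] at this
    have hq : σe (D.ι y) ∈ V₀ := hDW _ hyD
    let q₀ : V₀.toScheme := ⟨σe (D.ι y), hq⟩
    have hq₀ : V₀.ι q₀ = σe (D.ι y) := rfl
    have hπq₀ : π₀ q₀ = D.ι y := by
      change (V₀.ι ≫ pullback.snd G.s g) q₀ = D.ι y
      rw [Scheme.Hom.comp_apply, hq₀, ← Scheme.Hom.comp_apply, sectionLift_snd]
      rfl
    have hq₀D : q₀ ∈ π₀ ⁻¹ᵁ D := by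
      change π₀ q₀ ∈ D
      rw [hπq₀]; exact hyD
    refine ⟨⟨q₀, hq₀D⟩, ?_⟩
    change (D.ι ≫ σe) y = _
    rw [Scheme.Hom.comp_apply]
  let eV : D.toScheme ⟶ (π₀ ⁻¹ᵁ D).toScheme := IsOpenImmersion.lift ιV (D.ι ≫ σe) hrange
  have heVι : eV ≫ ιV = D.ι ≫ σe := IsOpenImmersion.lift_fac _ _ _
  have h1 : eV ≫ r = g₁ ≫ G.e := by
    change eV ≫ ιV ≫ pullback.fst G.s g = (D.ι ≫ g) ≫ G.e
    rw [← Category.assoc, heVι, Category.assoc, sectionLift_fst, Category.assoc]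
  have h2 : eV ≫ π = 𝟙 D.toScheme := by
    rw [← cancel_mono D.ι, Category.assoc, hπι, ← Category.assoc, heVι, Category.assoc,
      sectionLift_snd, Category.comp_id, Category.id_comp]
  -- the open immersion
  let k : pullback G.s g₁ ⟶ pullback G.s g :=
    pullback.map G.s g₁ G.s g (𝟙 _) D.ι (𝟙 _) (by simp) (by simp [g₁])
  haveI : IsOpenImmersion k := by
    change IsOpenImmersion (pullback.map G.s (D.ι ≫ g) G.s g (𝟙 _) D.ι (𝟙 _) _ _)
    infer_instance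
  have hlk : pullback.lift r π w ≫ k = ιV := by
    apply pullback.hom_ext
    · rw [Category.assoc, pullback.lift_fst, Category.comp_id, pullback.lift_fst]
    · rw [Category.assoc, pullback.lift_snd, ← Category.assoc, pullback.lift_snd, hπι]
  haveI : IsOpenImmersion (pullback.lift r π w ≫ k) := by
    rw [hlk]; infer_instance
  have hopen : IsOpenImmersion (pullback.lift r π w) := IsOpenImmersion.of_comp _ k
  -- finiteness and closedness
  haveI : IsFinite π := inferInstanceAs (IsFinite (π₀ ∣_ D))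
  haveI : Flat π := inferInstanceAs (Flat (π₀ ∣_ D))
  haveI : LocallyOfFinitePresentation π :=
    inferInstanceAs (LocallyOfFinitePresentation (π₀ ∣_ D))
  haveI : UniversallyClosed (pullback.lift r π w ≫ pullback.snd G.s g₁) := by
    rw [pullback.lift_snd]; infer_instance
  haveI : UniversallyClosed (pullback.lift r π w) :=
    UniversallyClosed.of_comp_of_isSeparated _ (pullback.snd G.s g₁)
  have hclosed : IsClosed (Set.range ⇑(pullback.lift r π w)) :=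
    (pullback.lift r π w).isClosedMap.isClosed_range
  haveI : IsAffine D.toScheme := hD
  have hVaff : IsAffine (π₀ ⁻¹ᵁ D).toScheme := isAffine_of_isAffineHom π
  -- uniqueness of the point over `u₁`
  have huniq' : ∀ v' : (π₀ ⁻¹ᵁ D).toScheme, π v' = u₁ → v' = eV u₁ := by
    intro v' hv'
    apply ιV.injective
    have hqV : ιV v' ∈ V₀ := by
      change ((π₀ ⁻¹ᵁ D).ι ≫ V₀.ι) v' ∈ V₀
      rw [Scheme.Hom.comp_apply]
      exact ((π₀ ⁻¹ᵁ D).ι v').2
    have hq2 : pullback.snd G.s g (ιV v') = σ pt := by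
      rw [← Scheme.Hom.comp_apply, ← hπι, Scheme.Hom.comp_apply, hv', hu₁]
    have hq1 : pullback.fst G.s g (ιV v') = G.e u := huniq _ hqV ⟨pt, hq2⟩
    have hq := eq_sectionLift_apply G.s G.e g G.e_s (ιV v') ⟨u, hq1.symm⟩
    rw [hq2] at hq
    rw [hq, ← Scheme.Hom.comp_apply eV ιV, heVι, Scheme.Hom.comp_apply, hu₁]
  exact ⟨D.toScheme, (π₀ ⁻¹ᵁ D).toScheme, g₁, r, π, eV, u₁, w, hD, hVaff,
    inferInstanceAs (Etale (D.ι ≫ g)), hg₁u, hiso, h1, h2, hopen, hclosed, inferInstance,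
    inferInstance, inferInstance, free_appTop_morphismRestrict π₀ D hfree, huniq'⟩

end Groth.Agent.H64.Boot5
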