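import Mathlib.AlgebraicGeometry.Fiber
import Mathlib.AlgebraicGeometry.Morphisms.Etale
import Mathlib.AlgebraicGeometry.Morphisms.Finite
import Mathlib.AlgebraicGeometry.Morphisms.QuasiCompact
import Mathlib.RingTheory.Smooth.Basic
import Mathlib.RingTheory.Noetherian.Nilpotent
import Groth.Agent.H64.Boot5.SectionPt

/-!
# The point clause of the Weil restriction chart, from the universal property

`point_of_univ`: helper65's (R1) POINT clause in generic form.
-/

set_option autoImplicit false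
set_option backward.isDefEq.respectTransparency.types false
universe u
open CategoryTheory CategoryTheory.Limits AlgebraicGeometry

namespace Groth.Agent.H64.Boot5

/-- Every ring map between global sections of affine schemes comes from a morphism. -/
theorem exists_hom_appTop {X Y : Scheme.{u}} [IsAffine X] [IsAffine Y] (m : Γ(Y, ⊤) ⟶ Γ(X, ⊤)) :
    ∃ μ : X ⟶ Y, μ.appTop = m := by
  refine ⟨X.toSpecΓ ≫ Spec.map m ≫ Y.isoSpec.inv, ?_⟩
  apply Spec.map_injective
  rw [← cancel_epi X.toSpecΓ, ← Scheme.toSpecΓ_naturality]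
  simp [Scheme.isoSpec]

/-- Infinitesimal lifting for an étale morphism of affine schemes along a section with nilpotent
kernel. -/
theorem exists_lift_of_nilpotent_section {U U₁ P T : Scheme.{u}} [IsAffine U] [IsAffine U₁]
    [IsAffine P] [IsAffine T] (g₁ : U₁ ⟶ U) [Etale g₁] (ε : T ⟶ P) (q : P ⟶ T)
    (hq : ε ≫ q = 𝟙 T) (hnil : IsNilpotent (RingHom.ker ε.appTop.hom))
    (a : T ⟶ U₁) (c : P ⟶ U) (hc : ε ≫ c = a ≫ g₁) :
    ∃ μ : P ⟶ U₁, μ ≫ g₁ = c ∧ ε ≫ μ = a := by
  have hEt : RingHom.Etale g₁.appTop.hom :=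
    (HasRingHomProperty.iff_of_isAffine (P := @Etale)).mp inferInstance
  let _ : Algebra Γ(U, ⊤) Γ(U₁, ⊤) := g₁.appTop.hom.toAlgebra
  let _ : Algebra Γ(U, ⊤) Γ(P, ⊤) := c.appTop.hom.toAlgebra
  let _ : Algebra Γ(U, ⊤) Γ(T, ⊤) := (a ≫ g₁).appTop.hom.toAlgebra
  have : Algebra.Etale Γ(U, ⊤) Γ(U₁, ⊤) := hEt
  let f : Γ(U₁, ⊤) →ₐ[Γ(U, ⊤)] Γ(T, ⊤) :=
    { a.appTop.hom with
      commutes' := fun r => by
        change a.appTop.hom (g₁.appTop.hom r) = (a ≫ g₁).appTop.hom r
        rw [Scheme.Hom.comp_appTop]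
        rfl }
  let g : Γ(P, ⊤) →ₐ[Γ(U, ⊤)] Γ(T, ⊤) :=
    { ε.appTop.hom with
      commutes' := fun r => by
        change ε.appTop.hom (c.appTop.hom r) = (a ≫ g₁).appTop.hom r
        rw [← hc, Scheme.Hom.comp_appTop]
        rfl }
  have hg : Function.Surjective g := by
    intro y
    refine ⟨q.appTop.hom y, ?_⟩
    change ε.appTop.hom (q.appTop.hom y) = y
    have := congrArg (fun k => k.appTop.hom y) hq
    simpa [Scheme.Hom.comp_appTop] using this
  have hg' : IsNilpotent (RingHom.ker (g : Γ(P, ⊤) →+* Γ(T, ⊤))) := hnil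
  let m := Algebra.FormallySmooth.liftOfSurjective f g hg hg'
  obtain ⟨μ, hμ⟩ := exists_hom_appTop (X := P) (Y := U₁) (CommRingCat.ofHom m.toRingHom)
  refine ⟨μ, ?_, ?_⟩
  · apply ext_of_isAffine
    rw [Scheme.Hom.comp_appTop, hμ]
    ext r
    exact m.commutes r
  · apply ext_of_isAffine
    rw [Scheme.Hom.comp_appTop, hμ]
    ext r
    exact Algebra.FormallySmooth.liftOfSurjective_apply f g hg hg' r

/-- The fibre of a finite morphism over a point with a single preimage is a one point scheme whose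
ring of functions has nilpotent augmentation ideal along any section. -/
theorem isNilpotent_ker_appTop_of_subsingleton {P T : Scheme.{u}} [IsAffine P] [IsAffine T]
    [IsNoetherianRing Γ(T, ⊤)] (q : P ⟶ T) [IsFinite q] (ε : T ⟶ P) (pt : ↥T)
    (hsub : ∀ z : ↥P, z = ε pt) : IsNilpotent (RingHom.ker ε.appTop.hom) := by
  have hfin : q.appTop.hom.Finite := Scheme.Hom.finite_appTop q
  have : IsNoetherianRing Γ(P, ⊤) := by
    let _ : Algebra Γ(T, ⊤) Γ(P, ⊤) := q.appTop.hom.toAlgebra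
    have : Module.Finite Γ(T, ⊤) Γ(P, ⊤) := hfin
    exact IsNoetherianRing.of_finite Γ(T, ⊤) Γ(P, ⊤)
  rw [Ideal.FG.isNilpotent_iff_le_nilradical (IsNoetherian.noetherian _)]
  intro x hx
  rw [mem_nilradical, Scheme.isNilpotent_iff_basicOpen_eq_bot]
  rw [RingHom.mem_ker] at hx
  by_contra hne
  obtain ⟨z, hz⟩ : ∃ z, z ∈ P.basicOpen x := by
    by_contra hcon
    push Not at hcon
    exact hne (le_bot_iff.mp fun z hz => (hcon z hz).elim)
  rw [hsub z] at hz
  have h1 : pt ∈ ε ⁻¹ᵁ P.basicOpen x := hz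
  rw [Scheme.preimage_basicOpen_top] at h1
  have h2 : ε.appTop.hom x = 0 := hx
  change pt ∈ T.basicOpen (ε.appTop.hom x) at h1
  rw [h2, Scheme.basicOpen_zero] at h1
  exact h1

/-- helper65's (R1) POINT clause, from the universal property of the Weil restriction chart. -/
theorem point_of_univ {U U₁ V U₂ : Scheme.{u}} [IsAffine U] [IsAffine U₁] [IsAffine V]
    [IsAffine U₂] (g₁ : U₁ ⟶ U) [Etale g₁] (π : V ⟶ U₁) [IsFinite π] (τ : V ⟶ U) (p : U₂ ⟶ U₁)
    (lam : pullback π p ⟶ U₁) (hlam : lam ≫ g₁ = pullback.fst π p ≫ τ)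
    (huniv : ∀ (T : Scheme.{u}) [IsAffine T] (a : T ⟶ U₁) (μ : pullback π a ⟶ U₁),
      μ ≫ g₁ = pullback.fst π a ≫ τ →
      ∃! b : T ⟶ U₂, b ≫ p = a ∧ ∀ x : pullback π a ⟶ pullback π p,
        x ≫ pullback.fst π p = pullback.fst π a →
        x ≫ pullback.snd π p = pullback.snd π a ≫ b → x ≫ lam = μ)
    (eV : U₁ ⟶ V) (heπ : eV ≫ π = 𝟙 U₁) (heτ : eV ≫ τ = g₁) (u₁ : ↥U₁)
    (hfib : ∀ v : ↥V, π v = u₁ → v = eV u₁) :
    ∃ (u₂ : ↥U₂) (hw : (U₂.fromSpecResidueField u₂ ≫ p ≫ eV) ≫ π =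
        U₂.fromSpecResidueField u₂ ≫ p),
      p u₂ = u₁ ∧ IsIso (p.residueFieldMap u₂) ∧
      pullback.lift (U₂.fromSpecResidueField u₂ ≫ p ≫ eV) (U₂.fromSpecResidueField u₂) hw ≫ lam =
        U₂.fromSpecResidueField u₂ ≫ p := by
  let T : Scheme.{u} := Spec (U₁.residueField u₁)
  let a : T ⟶ U₁ := U₁.fromSpecResidueField u₁
  let pt : ↥T := IsLocalRing.closedPoint (U₁.residueField u₁)
  have hεw : (a ≫ eV) ≫ π = 𝟙 T ≫ a := by
    rw [Category.assoc, heπ, Category.comp_id, Category.id_comp]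
  let ε : T ⟶ pullback π a := pullback.lift (a ≫ eV) (𝟙 T) hεw
  have hε1 : ε ≫ pullback.fst π a = a ≫ eV := pullback.lift_fst _ _ _
  have hε2 : ε ≫ pullback.snd π a = 𝟙 T := pullback.lift_snd _ _ _
  have : IsAffine (pullback π a) := isAffine_of_isAffineHom (pullback.snd π a)
  -- the fibre has a single point
  have hfst : ∀ z : ↥(pullback π a), pullback.fst π a z = eV u₁ := by
    intro z
    apply hfib
    rw [← Scheme.Hom.comp_apply, pullback.condition, Scheme.Hom.comp_apply]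
    exact Scheme.fromSpecResidueField_apply _ _
  have hsub : ∀ z : ↥(pullback π a), z = ε pt := by
    intro z
    apply (π.fiberHomeo u₁).injective
    apply Subtype.ext
    exact (hfst z).trans (hfst (ε pt)).symm
  have : IsNoetherianRing Γ(T, ⊤) :=
    isNoetherianRing_of_ringEquiv (U₁.residueField u₁)
      (Scheme.ΓSpecIso (U₁.residueField u₁)).symm.commRingCatIsoToRingEquiv
  have hnil : IsNilpotent (RingHom.ker ε.appTop.hom) :=
    isNilpotent_ker_appTop_of_subsingleton (pullback.snd π a) ε pt hsub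
  -- the infinitesimal lift
  obtain ⟨μ₀, hμ₀g, hμ₀ε⟩ := exists_lift_of_nilpotent_section g₁ ε (pullback.snd π a) hε2 hnil a
    (pullback.fst π a ≫ τ) (by rw [← Category.assoc, hε1, Category.assoc, heτ])
  obtain ⟨b₀, ⟨hb₀p, hb₀x⟩, -⟩ := huniv T a μ₀ hμ₀g
  obtain ⟨hpu, hiso⟩ := isIso_residueFieldMap_of_section p u₁ b₀ hb₀p
  refine ⟨b₀ pt, ?_, hpu, hiso, ?_⟩
  · rw [Category.assoc, Category.assoc, heπ, Category.comp_id]
  · let σ' : Spec (.of ↑(U₁.residueField u₁)) ⟶ U₂ := b₀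
    let φ : U₂.residueField (b₀ pt) ⟶ U₁.residueField u₁ :=
      Scheme.descResidueField (K := ↑(U₁.residueField u₁)) (Scheme.stalkClosedPointTo σ')
    have h1 : Spec.map φ ≫ U₂.fromSpecResidueField (b₀ pt) = b₀ :=
      Scheme.descResidueField_stalkClosedPointTo_fromSpecResidueField ↑(U₁.residueField u₁) U₂ σ'
    have := epi_specMap_residueField (b₀ pt) u₁ φ
    rw [← cancel_epi (Spec.map φ)]
    have hx₀w : pullback.fst π a ≫ π = (pullback.snd π a ≫ b₀) ≫ p := by
      rw [pullback.condition, Category.assoc, hb₀p]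
    let x₀ : pullback π a ⟶ pullback π p :=
      pullback.lift (pullback.fst π a) (pullback.snd π a ≫ b₀) hx₀w
    have hx₀ : x₀ ≫ lam = μ₀ := hb₀x x₀ (pullback.lift_fst _ _ _) (pullback.lift_snd _ _ _)
    have h2 : Spec.map φ ≫ pullback.lift (U₂.fromSpecResidueField (b₀ pt) ≫ p ≫ eV)
        (U₂.fromSpecResidueField (b₀ pt)) (by
          rw [Category.assoc, Category.assoc, heπ, Category.comp_id]) = ε ≫ x₀ := by
      apply pullback.hom_ext
      · rw [Category.assoc, pullback.lift_fst, reassoc_of% h1, Category.assoc, pullback.lift_fst,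
          hε1, reassoc_of% hb₀p]
      · rw [Category.assoc, pullback.lift_snd, h1, Category.assoc, pullback.lift_snd,
          reassoc_of% hε2]
    rw [reassoc_of% h2, hx₀, hμ₀ε, reassoc_of% h1, hb₀p]

end Groth.Agent.H64.Boot5
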