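import Groth.Agent.H64.Boot5.FirstChart
import Groth.Agent.H50.GLocFinal

/-!
# The first chart, in the shape required by `Groth.Agent.H50.GLoc.main_of`
-/

set_option autoImplicit false
universe u
open CategoryTheory CategoryTheory.Limits AlgebraicGeometry

namespace Groth.Agent.H64.Boot5

/-- The first-chart input of the étale localisation of groupoid schemes. -/
theorem r2Hyp : Groth.Agent.H50.GLoc.R2Hyp.{u} :=
  fun S G _ _ _ _ u hqf => exists_first_chart S G u hqf

end Groth.Agent.H64.Boot5
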