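import Groth.Agent.H64.Boot5.FirstChartMulti
import Groth.Agent.H50.GLocMulti2

/-!
# `R2mHyp` of helper50's multi-point glue, from `exists_first_chart_multi`
-/

set_option autoImplicit false
universe u
open CategoryTheory CategoryTheory.Limits AlgebraicGeometry

namespace Groth.Agent.H64.Boot5

theorem r2mHyp : Groth.Agent.H50.GLoc.R2mHyp.{u} := by
  intro S G _ _ _ _ u Sg hfin hs he hqf
  exact exists_first_chart_multi S G u Sg hfin hs he hqf

end Groth.Agent.H64.Boot5
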